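import Mathlib
import Cfsg.Agent.Lib.Helper29.SuGen
import Cfsg.Agent.Lib.Helper18.Herm4
import Cfsg.Agent.S0751

/-!
Witt's lemma for `GU_n(q)`.
-/

set_option autoImplicit false
set_option linter.unusedSectionVars false
set_option linter.unusedSimpArgs false

namespace Cfsg.Agent.Lib.Helper15

open Matrix Module Cfsg.Agent.H6 Cfsg.Agent.Lib.Helper29

variable {F : Type*} [Field F] [Fintype F] {n q : ℕ}

local notation "H" => Cfsg.hermForm n F q
local notation "Vn" => (Fin n → F)

/-- the Hermitian form as a sesquilinear map (conjugate-linear in the first variable) -/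
noncomputable def hermSesq (hF : Fintype.card F = q ^ 2) (n : ℕ) :
    (Fin n → F) →ₛₗ[Cfsg.Agent.Lib.Helper18.hermFrob hF] (Fin n → F) →ₗ[F] F :=
  LinearMap.mk₂'ₛₗ (Cfsg.Agent.Lib.Helper18.hermFrob hF) (RingHom.id F)
    (fun x y => Cfsg.hermForm n F q y x)
    (fun x x' y => hermForm_add_right hF y x x')
    (fun c x y => by
      rw [hermForm_smul_right]; rfl)
    (fun x y y' => hermForm_add_left y y' x)
    (fun c x y => by
      rw [hermForm_smul_left]; rfl)

theorem hermSesq_apply (hF : Fintype.card F = q ^ 2) (x y : Vn) : hermSesq hF n x y = H y x := rfl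

/-- **Witt's lemma** for the standard unitary group. -/
theorem witt_GU (hF : Fintype.card F = q ^ 2) (X Y : Submodule F Vn) (φ : X ≃ₗ[F] Y)
    (hφ : ∀ x x' : X, H (φ x : Vn) (φ x' : Vn) = H (x : Vn) (x' : Vn)) :
    ∃ g : GL (Fin n) F, g ∈ Cfsg.GU n F q ∧ ∀ x : X, (g : Matrix (Fin n) (Fin n) F) *ᵥ (x : Vn) = (φ x : Vn) := by
  have hσ : Cfsg.Agent.Lib.Helper18.hermFrob hF ≠ RingHom.id F := by
    intro h
    obtain ⟨x, hx⟩ := exists_pow_q_ne hF
    apply hx
    have := congrArg (fun f : F →+* F => f x) h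
    exact this
  have hσ2 : ∀ a : F, Cfsg.Agent.Lib.Helper18.hermFrob hF (Cfsg.Agent.Lib.Helper18.hermFrob hF a) = a :=
    fun a => pow_q_pow_q hF a
  have hS : (hermSesq hF n).IsSymm := by
    constructor
    intro x y
    exact hermForm_conj hF y x
  have hB : (hermSesq hF n).Nondegenerate := by
    constructor
    · intro x hx
      by_contra h0
      obtain ⟨z, hz⟩ := exists_herm_ne_zero (q := q) hF h0
      exact hz (hx z)
    · intro y hy
      by_contra h0
      obtain ⟨z, hz⟩ := exists_herm_ne_zero (q := q) hF h0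
      exact herm_ne_zero_symm hF hz (hy z)
  obtain ⟨g, hg, hgx⟩ := Cfsg.Agent.S0751.result (Cfsg.Agent.Lib.Helper18.hermFrob hF) hσ hσ2 (hermSesq hF n) hS hB
    X Y φ (fun x x' => hφ x' x)
  refine ⟨ofLE g, ?_, fun x => by rw [ofLE_mulVec, hgx]⟩
  rw [Cfsg.Agent.Lib.Helper29.mem_GU_iff]
  intro u v
  rw [ofLE_mulVec, ofLE_mulVec]
  exact hg v u

/-- Witt's lemma for linearly independent families with equal Gram matrices. -/
theorem witt_GU_family (hF : Fintype.card F = q ^ 2) {κ : Type*} {f f' : κ → Vn}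
    (hf : LinearIndependent F f) (hf' : LinearIndependent F f')
    (hgram : ∀ i j, H (f' i) (f' j) = H (f i) (f j)) :
    ∃ g : GL (Fin n) F, g ∈ Cfsg.GU n F q ∧ ∀ i, (g : Matrix (Fin n) (Fin n) F) *ᵥ f i = f' i := by
  classical
  set b := Basis.span hf with hb
  set b' := Basis.span hf' with hb'
  set φ := b.equiv b' (Equiv.refl κ) with hφdef
  have hφb : ∀ i, ((φ (b i) : Submodule.span F (Set.range f')) : Vn) = f' i := by
    intro i
    rw [hφdef, Basis.equiv_apply, Equiv.refl_apply, hb', Basis.span_apply]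
  have hbi : ∀ i, ((b i : Submodule.span F (Set.range f)) : Vn) = f i := by
    intro i
    rw [hb, Basis.span_apply]
  -- sesquilinear extension
  have key : ∀ x x' : Submodule.span F (Set.range f),
      H (φ x : Vn) (φ x' : Vn) = H (x : Vn) (x' : Vn) := by
    have lin : ∀ (y : Submodule.span F (Set.range f)),
        (∀ i, H (φ (b i) : Vn) (φ y : Vn) = H (b i : Vn) (y : Vn)) →
        ∀ x : Submodule.span F (Set.range f), H (φ x : Vn) (φ y : Vn) = H (x : Vn) (y : Vn) := by
      intro y hy x
      have : (hermDual n q (φ y : Vn)) ∘ₗ (Submodule.subtype (Submodule.span F (Set.range f'))) ∘ₗ φ.toLinearMap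
          = (hermDual n q (y : Vn)) ∘ₗ (Submodule.subtype (Submodule.span F (Set.range f))) := by
        apply b.ext
        intro i
        exact hy i
      exact congrArg (fun L => L x) this
    have s1 : ∀ (j : κ) (x : Submodule.span F (Set.range f)),
        H (φ x : Vn) (φ (b j) : Vn) = H (x : Vn) (b j : Vn) := by
      intro j
      apply lin
      intro i
      rw [hφb, hφb, hbi, hbi, hgram]
    intro x x'
    apply lin
    intro i
    rw [← hermForm_conj hF, s1, hermForm_conj hF]
  obtain ⟨g, hg, hgx⟩ := witt_GU hF _ _ φ key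
  refine ⟨g, hg, fun i => ?_⟩
  rw [← hbi i, hgx, hφb]

end Cfsg.Agent.Lib.Helper15
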